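import Mathlib
import Cfsg.Agent.Block.PrincipalPow
import Cfsg.Agent.Block.PPart

/-! Height zero characters of the principal block: the congruence
`∑_{χ ∈ Irr_{p'}(B₀)} χ(1) χ(g) ≡ 0 (mod M)` for all `g`, and its consequences. -/

set_option autoImplicit false
open scoped ComplexConjugate
open Cfsg Subgroup

namespace Cfsg.Agent.Eta
open Cfsg.Agent.Char Cfsg.Agent.Block

variable {G : Type*} [Group G] [Finite G] {M : Ideal AlgInt} {p : ℕ}

open Classical in
/-- The members of the principal block of degree prime to `p`. -/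
noncomputable def H0 (p : ℕ) (M : Ideal AlgInt) (G : Type*) [Group G] [Finite G] :
    Finset (IrrCharacter G) :=
  Finset.univ.filter fun χ => χ ∈ principalBlock M G ∧ ¬ p ∣ charDegree χ.1

theorem mem_H0 {χ : IrrCharacter G} :
    χ ∈ H0 p M G ↔ χ ∈ principalBlock M G ∧ ¬ p ∣ charDegree χ.1 := by
  simp [H0]

theorem card_H0 : Nat.card {χ : IrrCharacter G // χ ∈ principalBlock M G ∧
    ¬ p ∣ charDegree (χ : G → ℂ)} = (H0 p M G).card := by
  classical
  rw [Nat.card_eq_fintype_card, Fintype.card_subtype]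
  congr 1

theorem deg_one : charDegree (irrOne G).1 = 1 := charDegree_const_one

theorem one_mem_H0 (hM : IsPModular p M) : irrOne G ∈ H0 p M G :=
  mem_H0.2 ⟨irrOne_mem_principal hM, by rw [deg_one]; simpa using hM.1.one_lt.ne'⟩

theorem pow_mem_H0 {m : ℕ} (hm : m.Coprime (Nat.card G)) {χ : IrrCharacter G}
    (h : χ ∈ H0 p M G) : powIrr hm χ ∈ H0 p M G :=
  mem_H0.2 ⟨powIrr_mem_principal hm (mem_H0.1 h).1, by
    rw [charDegree_powIrr]; exact (mem_H0.1 h).2⟩

theorem powIrr_inj {m : ℕ} (hm : m.Coprime (Nat.card G)) :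
    Function.Injective (powIrr hm : IrrCharacter G → IrrCharacter G) := by
  intro χ ψ h
  ext g
  obtain ⟨x, rfl⟩ := (powCoprime hm.symm).surjective g
  exact congrFun (congrArg Subtype.val h) x

theorem powIrr_one {m : ℕ} (hm : m.Coprime (Nat.card G)) : powIrr hm (irrOne G) = irrOne G := rfl

open Classical in
theorem full (hM : IsPModular p M) (g : G) :
    val M (∑ χ : IrrCharacter G, if χ ∈ principalBlock M G then
      (charDegree χ.1 : ℂ) * χ.1 g else 0) ≤ val M (Nat.card G : ℂ) := by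
  have h1 := val_blockCoeff_principal_le_one hM (G := G) g⁻¹
  have h0 : (Nat.card G : ℂ) ≠ 0 := Nat.cast_ne_zero.2 Nat.card_pos.ne'
  have : (∑ χ : IrrCharacter G, if χ ∈ principalBlock M G then
      (charDegree χ.1 : ℂ) * χ.1 g else 0) =
      (Nat.card G : ℂ) * blockCoeff (principalBlock M G) g⁻¹ := by
    unfold blockCoeff
    rw [mul_inv_cancel_left₀ h0, finsum_mem_irr_eq_sum_ite]
    refine Finset.sum_congr rfl fun χ _ => ?_
    split_ifs
    · rw [coe_charDegree_irr, χ.2.isGen.map_inv, Complex.conj_conj]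
    · rfl
  rw [this, map_mul]
  exact mul_le_of_le_one_right' h1

theorem val_char (χ : IrrCharacter G) (g : G) : val M (χ.1 g) ≤ 1 :=
  val_le_one_of_isIntegral (χ.2.isGen.isIntegral g)

open Classical in
theorem split (f : IrrCharacter G → ℂ) :
    (∑ χ : IrrCharacter G, if χ ∈ principalBlock M G then f χ else 0) =
      ∑ χ ∈ H0 p M G, f χ + ∑ χ : IrrCharacter G,
        if χ ∈ principalBlock M G ∧ p ∣ charDegree χ.1 then f χ else 0 := by
  unfold H0
  rw [Finset.sum_filter, ← Finset.sum_add_distrib]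
  refine Finset.sum_congr rfl fun χ _ => ?_
  by_cases h1 : χ ∈ principalBlock M G <;> by_cases h2 : p ∣ charDegree χ.1 <;> simp [h1, h2]

theorem osima (hM : IsPModular p M) (hG : p ∣ Nat.card G) (g : G) :
    val M (∑ χ ∈ H0 p M G, (charDegree χ.1 : ℂ) * χ.1 g) < 1 := by
  classical
  have h1 := (full hM g).trans_lt ((val_natCast_lt_one_iff hM _).2 hG)
  rw [split (p := p)] at h1
  have h2 : val M (∑ χ : IrrCharacter G, if χ ∈ principalBlock M G ∧ p ∣ charDegree χ.1 then
      (charDegree χ.1 : ℂ) * χ.1 g else 0) < 1 := by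
    refine val_sum_lt_one fun χ _ => ?_
    split_ifs with h
    · exact val_mul_lt_one_left ((val_natCast_lt_one_iff hM _).2 h.2) (val_char χ g)
    · simp
  have := val_sub_lt_one h1 h2
  rwa [add_sub_cancel_right] at this

theorem sq_dvd (hM : IsPModular p M) (hG : p ^ 2 ∣ Nat.card G) :
    p ^ 2 ∣ ∑ χ ∈ H0 p M G, charDegree χ.1 ^ 2 := by
  classical
  have h1 := full hM (1 : G)
  have e : (∑ χ : IrrCharacter G, if χ ∈ principalBlock M G then
      (charDegree χ.1 : ℂ) * χ.1 1 else 0) =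
      ((∑ χ ∈ H0 p M G, charDegree χ.1 ^ 2 + ∑ χ : IrrCharacter G,
        if χ ∈ principalBlock M G ∧ p ∣ charDegree χ.1 then charDegree χ.1 ^ 2 else 0 : ℕ) : ℂ) := by
    rw [split (p := p)]
    push_cast
    simp only [← coe_charDegree_irr, sq]
  rw [e] at h1
  have h2 : p ^ 2 ∣ ∑ χ : IrrCharacter G,
        if χ ∈ principalBlock M G ∧ p ∣ charDegree χ.1 then charDegree χ.1 ^ 2 else 0 := by
    refine Finset.dvd_sum fun χ _ => ?_
    split_ifs with h
    · exact pow_dvd_pow_of_dvd h.2 2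
    · simp
  refine (Nat.dvd_add_left h2).1 ?_
  generalize (∑ χ ∈ H0 p M G, charDegree χ.1 ^ 2 + ∑ χ : IrrCharacter G,
        if χ ∈ principalBlock M G ∧ p ∣ charDegree χ.1 then charDegree χ.1 ^ 2 else 0 : ℕ) = N
    at h1
  rcases eq_or_ne N 0 with rfl | hN
  · simp
  rw [val_natCast_le_iff hM hN Nat.card_pos.ne'] at h1
  rw [hM.1.pow_dvd_iff_le_factorization hN]
  exact ((hM.1.pow_dvd_iff_le_factorization Nat.card_pos.ne').1 hG).trans h1

/-- An integer-valued combination of two non-principal characters. -/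
theorem exists_intFun [Fintype G] {χ ψ : IrrCharacter G} (h1 : χ ≠ irrOne G) (h2 : ψ ≠ irrOne G)
    (h3 : χ ≠ ψ) (a b : ℤ)
    (h : ∀ m : ℕ, m.Coprime (Nat.card G) → ∀ g,
      (a : ℂ) * χ.1 (g ^ m) + b * ψ.1 (g ^ m) = a * χ.1 g + b * ψ.1 g) :
    ∃ Z : G → ℤ, (∀ g, (Z g : ℂ) = a * χ.1 g + b * ψ.1 g) ∧ ∑ g, Z g = 0 ∧
      ∑ g, Z g ^ 2 = (a ^ 2 + b ^ 2) * Nat.card G := by
  classical
  have hgen : IsGeneralizedCharacter G ((a : ℂ) • χ.1 + (b : ℂ) • ψ.1) :=
    (χ.2.isGen.intCast_smul a).add (ψ.2.isGen.intCast_smul b)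
  choose Z hZ using fun g => hgen.exists_int_of_pow g fun m hm => h m hm g
  refine ⟨Z, fun g => (hZ g).symm, ?_, ?_⟩
  · have := sum_mul_conj_eq ((a : ℂ) • χ.1 + (b : ℂ) • ψ.1) (irrOne G).1
    rw [classInner_add_left, classInner_smul_left, classInner_smul_left, irr_inner, irr_inner,
      if_neg h1, if_neg h2] at this
    simp only [hZ, irrOne_apply, map_one, mul_one, mul_zero, add_zero] at this
    exact_mod_cast this
  · have := sum_mul_conj_eq ((a : ℂ) • χ.1 + (b : ℂ) • ψ.1) ((a : ℂ) • χ.1 + (b : ℂ) • ψ.1)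
    rw [classInner_add_left, classInner_smul_left, classInner_smul_left, classInner_add_right,
      classInner_add_right, classInner_smul_right, classInner_smul_right, classInner_smul_right,
      classInner_smul_right, irr_inner, irr_inner, irr_inner, irr_inner, if_pos rfl, if_pos rfl,
      if_neg h3, if_neg h3.symm] at this
    simp only [hZ, map_intCast] at this
    have h4 : ((∑ g, Z g ^ 2 : ℤ) : ℂ) = (((a ^ 2 + b ^ 2) * Nat.card G : ℤ) : ℂ) := by
      push_cast
      simp only [sq]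
      rw [this]; ring
    exact_mod_cast h4

/-- The numerical core of the rational case. -/
theorem rat_case {ι : Type*} [Fintype ι] (X Y : ι → ℤ) (c d q n : ℤ) (hq : 0 < q) (hn : 0 < n)
    (hc : (Fintype.card ι : ℤ) = n)
    (h : ∀ g, q ∣ 1 + c * X g + d * Y g) (h1 : q ∣ 1 + c ^ 2 + d ^ 2) (hX : ∑ g, X g = 0)
    (hX2 : ∑ g, X g ^ 2 = n) (hY2 : ∑ g, Y g ^ 2 = n) (g0 : ι) (h0 : X g0 ^ 2 = 1)
    (h0' : Y g0 = 0) : q ≤ 8 ∧ q ∣ 2 + d ^ 2 := by
  set ε := X g0 with hε
  have h2 : q ∣ ε + c := by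
    have := (h g0).mul_left ε
    rw [h0', ← hε] at this
    rwa [show ε * (1 + c * ε + d * 0) = ε + c by linear_combination c * h0] at this
  have h3 : q ∣ 2 + d ^ 2 := by
    have := h1.sub (h2.mul_left (c - ε))
    rwa [show 1 + c ^ 2 + d ^ 2 - (c - ε) * (ε + c) = 2 + d ^ 2 by linear_combination h0] at this
  refine ⟨?_, h3⟩
  have h4 : ∀ g, q * (2 - ε * X g * (ε * X g + 1)) ≤ 2 * ((ε * X g - 1) ^ 2 + 2 * Y g ^ 2) := by
    intro g
    have h5 : q ∣ ε * X g - 1 - d * Y g := by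
      have := (h2.mul_left (X g)).sub (h g)
      rwa [show X g * (ε + c) - (1 + c * X g + d * Y g) = ε * X g - 1 - d * Y g by ring] at this
    have h6 : q ∣ (ε * X g - 1) ^ 2 + 2 * Y g ^ 2 := by
      have := (h5.mul_left (ε * X g - 1 + d * Y g)).add (h3.mul_left (Y g ^ 2))
      rwa [show (ε * X g - 1 + d * Y g) * (ε * X g - 1 - d * Y g) + Y g ^ 2 * (2 + d ^ 2) =
        (ε * X g - 1) ^ 2 + 2 * Y g ^ 2 by ring] at this
    generalize ε * X g = w at h6 ⊢
    rcases eq_or_ne w 1 with rfl | hw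
    · nlinarith [sq_nonneg (Y g)]
    · have h7 : 0 < (w - 1) ^ 2 + 2 * Y g ^ 2 := by
        have := sq_pos_of_ne_zero (sub_ne_zero.2 hw)
        nlinarith [sq_nonneg (Y g)]
      have h8 := Int.le_of_dvd h7 h6
      have h9 : 0 ≤ w * (w + 1) := by
        rcases le_or_gt 0 w with h | h
        · positivity
        · exact mul_nonneg_of_nonpos_of_nonpos h.le (by omega)
      nlinarith
  have h5 := Finset.sum_le_sum fun g (_ : g ∈ Finset.univ) => h4 g
  have e1 : ∑ g, q * (2 - ε * X g * (ε * X g + 1)) = q * n := by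
    have : ∀ g, q * (2 - ε * X g * (ε * X g + 1)) = 2 * q - q * X g ^ 2 - q * ε * X g := by
      intro g
      linear_combination (-q * X g ^ 2) * h0
    simp only [this, Finset.sum_sub_distrib, ← Finset.mul_sum, hX, hX2, Finset.sum_const,
      Finset.card_univ, nsmul_eq_mul, hc]
    ring
  have e2 : ∑ g, 2 * ((ε * X g - 1) ^ 2 + 2 * Y g ^ 2) = 8 * n := by
    have : ∀ g, 2 * ((ε * X g - 1) ^ 2 + 2 * Y g ^ 2) =
        2 * X g ^ 2 - 4 * ε * X g + 2 + 4 * Y g ^ 2 := by
      intro g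
      linear_combination (2 * X g ^ 2) * h0
    simp only [this, Finset.sum_add_distrib, Finset.sum_sub_distrib, ← Finset.mul_sum, hX, hX2,
      hY2, Finset.sum_const, Finset.card_univ, nsmul_eq_mul, hc]
    ring
  rw [e1, e2] at h5
  nlinarith

end Cfsg.Agent.Eta
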