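import Cfsg.Agent.Eta.Core
import Cfsg.Agent.Block.Height
import Cfsg.Agent.S4494
import Cfsg.Agent.S4652

/-! Principal blocks with two or three characters of height zero. -/

set_option autoImplicit false
open scoped ComplexConjugate
open Cfsg Subgroup

namespace Cfsg.Agent.Eta
open Cfsg.Agent.Char Cfsg.Agent.Block

variable {G : Type*} [Group G] [Finite G] {M : Ideal AlgInt} {p : ℕ}

theorem bound [Fact p.Prime] (hM : IsPModular p M) (P : Sylow p G) :
    4 * (H0 p M G).card ≤ Nat.card P ^ 2 + 4 := by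
  classical
  have := Fintype.ofFinite G
  have hB := isPBlock_principal (M := M) (G := G)
  have h1 := S4494.result p M hM _ hB
  have h2 := card_defectGroup hM hB ((S4652.result p M hM P).2 ⟨P, rfl⟩)
  have h3 : (H0 p M G).card ≤ Nat.card (principalBlock M G) := by
    rw [← card_H0]
    exact Nat.card_le_card_of_injective (fun χ => ⟨χ.1, χ.2.1⟩)
      fun χ ψ e => Subtype.ext (congrArg (fun x : principalBlock M G => x.1) e)
  rw [mul_comm 2, pow_mul, ← h2] at h1
  omega

theorem dvd_card [Fact p.Prime] (hM : IsPModular p M) (h : 2 ≤ (H0 p M G).card) :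
    p ∣ Nat.card G := by
  obtain ⟨P⟩ : Nonempty (Sylow p G) := inferInstance
  by_contra hG
  have h1 := bound hM P
  rw [P.card_eq_multiplicity, Nat.factorization_eq_zero_of_not_dvd hG, pow_zero] at h1
  omega

theorem card_ne_one (hM : IsPModular p M) (hG : p ∣ Nat.card G) : (H0 p M G).card ≠ 1 := by
  intro h
  obtain ⟨χ, hχ⟩ := Finset.card_eq_one.1 h
  have h1 := one_mem_H0 (G := G) hM
  have h2 := osima hM hG 1
  rw [hχ, Finset.mem_singleton] at h1
  rw [hχ, Finset.sum_singleton, ← h1, deg_one] at h2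
  simp at h2

theorem deg_eq_one {χ : IrrCharacter G} {c : ℂ} (h : ∀ g, val M (1 + c * χ.1 g) < 1) :
    charDegree χ.1 = 1 := by
  rw [charDegree_eq_one_iff χ.2.isCharacter]
  by_contra h1
  obtain ⟨g, hg⟩ := χ.2.exists_eq_zero h1
  simpa [hg] using h g

theorem two [Fact p.Prime] (hM : IsPModular p M) (h : (H0 p M G).card = 2) :
    p = 2 ∧ ¬ p ^ 2 ∣ Nat.card G := by
  classical
  have hG := dvd_card hM h.ge
  obtain ⟨χ, hχ⟩ := Finset.card_eq_one.1 (show ((H0 p M G).erase (irrOne G)).card = 1 by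
    rw [Finset.card_erase_of_mem (one_mem_H0 hM), h])
  have hs : ∀ {β : Type} [AddCommMonoid β] (f : IrrCharacter G → β),
      ∑ ξ ∈ H0 p M G, f ξ = f (irrOne G) + f χ := fun f => by
    rw [← Finset.add_sum_erase _ _ (one_mem_H0 hM), hχ, Finset.sum_singleton]
  have h1 : ∀ g, val M (1 + (charDegree χ.1 : ℂ) * χ.1 g) < 1 := fun g => by
    simpa [hs, deg_one] using osima hM hG g
  have h2 := deg_eq_one h1
  have h3 := h1 1
  rw [← coe_charDegree_irr, h2] at h3
  have h4 : p ∣ 2 := (val_natCast_lt_one_iff hM 2).1 (by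
    convert h3 using 2; norm_num)
  have h5 : p = 2 := (Nat.prime_dvd_prime_iff_eq hM.1 Nat.prime_two).1 h4
  refine ⟨h5, fun h6 => ?_⟩
  have h7 := sq_dvd hM h6
  rw [hs, deg_one, h2, h5] at h7
  norm_num at h7

theorem three [Fact p.Prime] (hM : IsPModular p M) (h : (H0 p M G).card = 3) :
    p = 3 ∧ ¬ p ^ 2 ∣ Nat.card G := by
  classical
  have := Fintype.ofFinite G
  have hG := dvd_card (G := G) hM (by omega)
  obtain ⟨χ, ψ, hne, hχ⟩ := Finset.card_eq_two.1 (show ((H0 p M G).erase (irrOne G)).card = 2 by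
    rw [Finset.card_erase_of_mem (one_mem_H0 hM), h])
  have hs : ∀ {β : Type} [AddCommMonoid β] (f : IrrCharacter G → β),
      ∑ ξ ∈ H0 p M G, f ξ = f (irrOne G) + f χ + f ψ := fun f => by
    rw [← Finset.add_sum_erase _ _ (one_mem_H0 hM), hχ, Finset.sum_pair hne, add_assoc]
  have m1 : χ ∈ (H0 p M G).erase (irrOne G) := by rw [hχ]; simp
  have m2 : ψ ∈ (H0 p M G).erase (irrOne G) := by rw [hχ]; simp
  have n1 := (Finset.mem_erase.1 m1).1
  have n2 := (Finset.mem_erase.1 m2).1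
  set c := charDegree χ.1 with hc
  set d := charDegree ψ.1 with hd
  have c0 : ¬ p ∣ c := (mem_H0.1 (Finset.mem_erase.1 m1).2).2
  have d0 : ¬ p ∣ d := (mem_H0.1 (Finset.mem_erase.1 m2).2).2
  have h1 : ∀ g, val M (1 + (c : ℂ) * χ.1 g + (d : ℂ) * ψ.1 g) < 1 := fun g => by
    simpa [hs, deg_one] using osima hM hG g
  have hperm : ∀ (m : ℕ) (hm : m.Coprime (Nat.card G)),
      (powIrr hm χ = χ ∧ powIrr hm ψ = ψ) ∨ (powIrr hm χ = ψ ∧ powIrr hm ψ = χ ∧ c = d) := by
    intro m hm
    have k : ∀ ξ ∈ (H0 p M G).erase (irrOne G), powIrr hm ξ = χ ∨ powIrr hm ξ = ψ := by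
      intro ξ hξ
      have : powIrr hm ξ ∈ (H0 p M G).erase (irrOne G) := Finset.mem_erase.2
        ⟨fun e => (Finset.mem_erase.1 hξ).1 (powIrr_inj hm (e.trans (powIrr_one hm).symm)),
          pow_mem_H0 hm (Finset.mem_erase.1 hξ).2⟩
      rw [hχ] at this
      simpa using this
    have k2 : powIrr hm χ ≠ powIrr hm ψ := fun e => hne (powIrr_inj hm e)
    rcases k χ m1 with a | a <;> rcases k ψ m2 with b | b
    · exact absurd (a.trans b.symm) k2
    · exact Or.inl ⟨a, b⟩
    · exact Or.inr ⟨a, b, by rw [hc, hd, ← a, charDegree_powIrr]⟩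
    · exact absurd (a.trans b.symm) k2
  have hint : ∀ a b : ℤ, (c = d → a = b) →
      ∃ Z : G → ℤ, (∀ g, (Z g : ℂ) = a * χ.1 g + b * ψ.1 g) ∧ ∑ g, Z g = 0 ∧
      ∑ g, Z g ^ 2 = (a ^ 2 + b ^ 2) * Nat.card G := by
    intro a b hab
    refine exists_intFun n1 n2 hne a b fun m hm g => ?_
    rw [← powIrr_apply hm, ← powIrr_apply hm]
    rcases hperm m hm with ⟨e1, e2⟩ | ⟨e1, e2, e3⟩
    · rw [e1, e2]
    · rw [e1, e2, hab e3, add_comm]
  have hn : (0 : ℤ) < Nat.card G := by exact_mod_cast Nat.card_pos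
  have hcard : (Fintype.card G : ℤ) = Nat.card G := by rw [Nat.card_eq_fintype_card]
  have hp0 : (0 : ℤ) < p := by exact_mod_cast hM.1.pos
  have h11 : (p : ℤ) ∣ 1 + (c : ℤ) ^ 2 + (d : ℤ) ^ 2 := (val_intCast_lt_one_iff hM _).1 (by
    have := h1 1
    rw [← coe_charDegree_irr, ← coe_charDegree_irr] at this
    convert this using 2; push_cast; ring)
  have hp2 : p ≠ 2 := by
    rintro rfl
    have e1 : c % 2 = 1 := by omega
    have e2 : d % 2 = 1 := by omega
    have e3 : (2 : ℤ) ∣ 1 + (c : ℤ) ^ 2 + (d : ℤ) ^ 2 := by exact_mod_cast h11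
    obtain ⟨c', hc'⟩ : ∃ c' : ℤ, (c : ℤ) = 2 * c' + 1 := ⟨c / 2, by omega⟩
    obtain ⟨d', hd'⟩ : ∃ d' : ℤ, (d : ℤ) = 2 * d' + 1 := ⟨d / 2, by omega⟩
    rw [hc', hd', show 1 + (2 * c' + 1) ^ 2 + (2 * d' + 1) ^ 2 =
      2 * (2 * c' ^ 2 + 2 * c' + 2 * d' ^ 2 + 2 * d' + 1) + 1 by ring] at e3
    omega
  have fin : ∀ e : ℤ, (p : ℤ) ≤ 8 → (p : ℤ) ∣ 2 + e ^ 2 → p = 3 := by
    intro e h8 he
    have h9 : p ≤ 8 := by exact_mod_cast h8
    have hpp := hM.1
    have k5 : ∀ x : ZMod 5, 2 + x ^ 2 ≠ 0 := by decide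
    have k7 : ∀ x : ZMod 7, 2 + x ^ 2 ≠ 0 := by decide
    interval_cases p
    all_goals first | rfl | (exfalso; revert hpp; decide) | skip
    · exact absurd rfl hp2
    · exact absurd (by exact_mod_cast (ZMod.intCast_zmod_eq_zero_iff_dvd _ 5).2 he) (k5 e)
    · exact absurd (by exact_mod_cast (ZMod.intCast_zmod_eq_zero_iff_dvd _ 7).2 he) (k7 e)
  have hp3 : p = 3 := by
    by_cases hcd : c = d
    · obtain ⟨T, hT, -, hT2⟩ := hint 1 1 fun _ => rfl
      have k1 : ∀ g, (p : ℤ) ∣ 2 + T g ^ 2 := by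
        intro g
        have k2 : (p : ℤ) ∣ 1 + c * T g := (val_intCast_lt_one_iff hM _).1 (by
          have := h1 g
          rw [← hcd] at this
          convert this using 2; push_cast; rw [hT]; push_cast; ring)
        rw [← hcd] at h11
        have k3 : (p : ℤ) ∣ (c : ℤ) ^ 2 * (2 + T g ^ 2) := by
          have := h11.add (k2.mul_left (c * T g - 1))
          rwa [show 1 + (c : ℤ) ^ 2 + (c : ℤ) ^ 2 + (c * T g - 1) * (1 + c * T g) =
            (c : ℤ) ^ 2 * (2 + T g ^ 2) by ring] at this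
        have hpz : Prime (p : ℤ) := Nat.prime_iff_prime_int.1 hM.1
        refine (hpz.dvd_or_dvd k3).resolve_left fun k4 => c0 ?_
        exact_mod_cast hpz.dvd_of_dvd_pow k4
      have k2 := Finset.sum_le_sum fun g (_ : g ∈ Finset.univ) =>
        Int.le_of_dvd (by positivity) (k1 g)
      rw [Finset.sum_add_distrib, hT2] at k2
      simp only [Finset.sum_const, Finset.card_univ, nsmul_eq_mul, hcard] at k2
      exact fin (T 1) (by nlinarith) (k1 1)
    · obtain ⟨X, hX, hX1, hX2⟩ := hint 1 0 fun e => absurd e hcd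
      obtain ⟨Y, hY, hY1, hY2⟩ := hint 0 1 fun e => absurd e hcd
      simp only [Int.cast_one, Int.cast_zero, one_mul, zero_mul, add_zero, zero_add] at hX hY
      norm_num at hX2 hY2
      rw [← Nat.card_eq_fintype_card] at hX2 hY2
      have k1 : ∀ g, (p : ℤ) ∣ 1 + c * X g + d * Y g := fun g =>
        (val_intCast_lt_one_iff hM _).1 (by
          convert h1 g using 2; push_cast; rw [hX, hY])
      obtain ⟨g, hg⟩ : ∃ g, X g ^ 2 + Y g ^ 2 < 2 := by
        by_contra k2
        push Not at k2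
        have k3 := (Finset.sum_eq_sum_iff_of_le fun g (_ : g ∈ Finset.univ) => k2 g).1 (by
          rw [Finset.sum_add_distrib, hX2, hY2]
          simp only [Finset.sum_const, Finset.card_univ, nsmul_eq_mul, hcard]; ring)
          1 (Finset.mem_univ _)
        have e1 : X 1 = c := by
          have := hX 1
          rw [← coe_charDegree_irr] at this
          exact_mod_cast this
        have e2 : Y 1 = d := by
          have := hY 1
          rw [← coe_charDegree_irr] at this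
          exact_mod_cast this
        rw [e1, e2] at k3
        have c1 : 0 < c := charDegree_pos_of_isIrr χ.2
        have d1 : 0 < d := charDegree_pos_of_isIrr ψ.2
        apply hcd
        have : (c : ℤ) = 1 := by nlinarith
        have : (d : ℤ) = 1 := by nlinarith
        omega
      have x1 : -1 ≤ X g ∧ X g ≤ 1 := by constructor <;> nlinarith [sq_nonneg (Y g)]
      have y1 : -1 ≤ Y g ∧ Y g ≤ 1 := by constructor <;> nlinarith [sq_nonneg (X g)]
      by_cases hy : Y g = 0
      · have hx : X g ≠ 0 := by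
          intro hx
          have := k1 g
          rw [hx, hy] at this
          have := Int.le_of_dvd (by norm_num) this
          have := hM.1.two_le
          omega
        have := rat_case X Y c d p _ hp0 hn hcard k1 h11 hX1 hX2 hY2 g
          (by rcases (by omega : X g = 1 ∨ X g = -1) with e | e <;> simp [e]) hy
        exact fin d this.1 this.2
      · have hy2 : Y g ^ 2 = 1 := by
          rcases (by omega : Y g = 1 ∨ Y g = -1) with e | e <;> simp [e]
        have := rat_case Y X d c p _ hp0 hn hcard (fun g => by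
          have := k1 g; rwa [add_right_comm] at this) (by rwa [add_right_comm] at h11)
          hY1 hY2 hX2 g hy2 (by nlinarith)
        exact fin c this.1 this.2
  refine ⟨hp3, fun h9 => ?_⟩
  have h7 := sq_dvd hM h9
  rw [hs, deg_one, ← hc, ← hd] at h7
  subst hp3
  let sg : ℕ → ℤ := fun n => if n % 3 = 1 then 1 else -1
  have s1 : ∀ n, sg n ^ 2 = 1 := fun n => by simp only [sg]; split_ifs <;> norm_num
  have s2 : ∀ n : ℕ, ¬ 3 ∣ n → (3 : ℤ) ∣ sg n - n := fun n hn => by
    simp only [sg]; split_ifs <;> omega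
  obtain ⟨Z, hZ, hZ1, hZ2⟩ := hint (sg c) (sg d) fun e => by rw [e]
  have k1 : ∀ g, (3 : ℤ) ∣ 1 + Z g := fun g => (val_intCast_lt_one_iff hM _).1 (by
    have k2 : ∀ (n : ℕ) (ξ : IrrCharacter G), ¬ 3 ∣ n →
        val M (((sg n - n : ℤ) : ℂ) * ξ.1 g) < 1 := fun n ξ hn =>
      val_mul_lt_one_left ((val_intCast_lt_one_iff hM _).2 (s2 n hn)) (val_char ξ g)
    convert val_add_lt_one (val_add_lt_one (h1 g) (k2 c χ c0)) (k2 d ψ d0) using 2
    push_cast; rw [hZ]; ring)
  have k2 : ∀ g, 0 ≤ (1 + Z g) * (Z g - 2) := fun g => by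
    obtain ⟨t, ht⟩ := k1 g
    rcases le_or_gt t 0 with k | k
    · exact mul_nonneg_of_nonpos_of_nonpos (by omega) (by omega)
    · exact mul_nonneg (by omega) (by omega)
  have k3 := (Finset.sum_eq_zero_iff_of_nonneg fun g (_ : g ∈ Finset.univ) => k2 g).1 (by
    have : ∀ g, (1 + Z g) * (Z g - 2) = Z g ^ 2 - Z g - 2 := fun g => by ring
    simp only [this, Finset.sum_sub_distrib, hZ1, hZ2, s1, Finset.sum_const, Finset.card_univ,
      nsmul_eq_mul, hcard]
    ring) 1 (Finset.mem_univ _)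
  have k4 : Z 1 = sg c * c + sg d * d := by
    have := hZ 1
    rw [← coe_charDegree_irr, ← coe_charDegree_irr] at this
    exact_mod_cast this
  obtain ⟨u, hu⟩ := s2 c c0
  obtain ⟨v, hv⟩ := s2 d d0
  have h8 : (9 : ℤ) ∣ 1 + (c : ℤ) ^ 2 + (d : ℤ) ^ 2 := by exact_mod_cast h7
  have k5 : 1 + (c : ℤ) ^ 2 + (d : ℤ) ^ 2 = 2 * Z 1 - 1 + 9 * (u ^ 2 + v ^ 2) := by
    rw [k4]
    linear_combination (sg c - c + 3 * u) * hu + (sg d - d + 3 * v) * hv - s1 c - s1 d
  rw [k5] at h8
  rcases mul_eq_zero.1 k3 with k | k <;> omega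

end Cfsg.Agent.Eta
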